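import Cfsg.Agent.H426.LieFam
import Cfsg.Agent.H420.Reduce
import Mathlib

/-!
# Team T3 (S3435, recognition by the set of element orders): common definitions (helper29)

* `SameOrd G L` : the sets of element orders are equal;
* `SpecQR L` : quasirecognition by the set of element orders;
* `NoCross p L` : no simple section of a group isospectral to `L` is of Lie type in a characteristic `≠ p`;
* `sg`, `cls`, `eta`, `wt`, `rk`, `mem`, `na` : the combinatorics of the classes of primes of the classical families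
  (`H426.LieFam.Fam`), criteria of Vasil'ev–Vdovin; only REGULAR classes (`3 ≤ i`) are used;
* `AdjFacts t p f X` : what box P1 proves for the members `X` of the classical family `t` over the field with `p ^ f`
  elements.
-/

set_option autoImplicit false

namespace Cfsg.Agent.R2.Spec

open Cfsg Cfsg.Agent.H426.LieFam

universe u v w

/-- equal sets of element orders -/
def SameOrd (G : Type u) [Group G] (L : Type v) [Group L] : Prop :=
  Set.range (orderOf : G → ℕ) = Set.range (orderOf : L → ℕ)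

/-- quasirecognition by the set of element orders -/
def SpecQR (L : Type v) [Group L] : Prop :=
  ∀ (G : Type u) [Group G] [Finite G], Set.range (orderOf : G → ℕ) = Set.range (orderOf : L → ℕ) →
    ∃ (K H : Subgroup G) (_ : K.Normal) (_ : H.Normal), K ≤ H ∧ Group.IsSolvable ↥K ∧ Group.IsSolvable (G ⧸ H) ∧
      Nonempty (↥H ⧸ K.subgroupOf H ≃* L)

/-- no nonabelian simple section of a group isospectral to `L` is of Lie type in a characteristic different from `p` -/
def NoCross (p : ℕ) (L : Type v) [Group L] : Prop :=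
  ∀ (G : Type u) [Group G] [Finite G], Set.range (orderOf : G → ℕ) = Set.range (orderOf : L → ℕ) →
    ∀ (H : Subgroup G), H.IsSubnormal → ∀ (N : Subgroup ↥H) [N.Normal], IsSimpleGroup (↥H ⧸ N) →
      ¬ IsMulCommutative (↥H ⧸ N) → ∀ r : ℕ, r.Prime → r ≠ p → ¬ IsLieTypeChar r (↥H ⧸ N)

/-! ### classes of primes for the classical families -/

/-- the signed cardinality of the field -/
def sg : Fam → ℕ → ℤ
  | .psu _, q => -(q : ℤ)
  | _, q => (q : ℤ)

/-- the class of the prime `r` -/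
noncomputable def cls (t : Fam) (q r : ℕ) : ℕ := orderOf ((sg t q : ℤ) : ZMod r)

/-- `η` -/
def eta (i : ℕ) : ℕ := if i % 2 = 0 then i / 2 else i

/-- the weight of a class -/
def wt : Fam → ℕ → ℕ
  | .psl _, i => i
  | .psu _, i => i
  | _, i => eta i

/-- the rank with respect to the weights: `n` for `L_n`, `U_n`, `PSp_2n`, `Ω_{2n+1}`, `PΩ^±_2n` -/
def rk : Fam → ℕ
  | .psl n => n
  | .psu n => n
  | .psp n => n
  | .oodd n => n
  | .oplus n => n
  | .ominus n => n
  | _ => 0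

/-- the classes which occur (`1 ≤ i`) -/
def mem : Fam → ℕ → Prop
  | .psl n, i => i ≤ n
  | .psu n, i => i ≤ n
  | .psp n, i => eta i ≤ n
  | .oodd n, i => eta i ≤ n
  | .oplus n, i => eta i + 1 ≤ n ∨ (i = n ∧ n % 2 = 1)
  | .ominus n, i => eta i + 1 ≤ n ∨ i = 2 * n
  | _, _ => False

/-- `j` is an odd multiple of `i` -/
def OddMul (i j : ℕ) : Prop := ∃ k : ℕ, k % 2 = 1 ∧ j = i * k

/-- non-adjacency of two regular classes -/
def na : Fam → ℕ → ℕ → Prop
  | .psl n, i, j => n < i + j ∧ ¬ i ∣ j ∧ ¬ j ∣ i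
  | .psu n, i, j => n < i + j ∧ ¬ i ∣ j ∧ ¬ j ∣ i
  | .psp n, i, j => n < eta i + eta j ∧ ¬ OddMul i j ∧ ¬ OddMul j i
  | .oodd n, i, j => n < eta i + eta j ∧ ¬ OddMul i j ∧ ¬ OddMul j i
  | .oplus n, i, j => (n < eta i + eta j ∨ (n = eta i + eta j ∧ (i + j) % 2 = 1)) ∧ ¬ OddMul i j ∧ ¬ OddMul j i ∧
      ¬ (i = n ∧ 2 * j = n ∧ j % 2 = 1) ∧ ¬ (j = n ∧ 2 * i = n ∧ i % 2 = 1)
  | .ominus n, i, j => (n < eta i + eta j ∨ (n = eta i + eta j ∧ (i + j) % 2 = 0)) ∧ ¬ OddMul i j ∧ ¬ OddMul j i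
  | _, _, _ => False

/-- non-adjacency of a regular class and the characteristic -/
def nap : Fam → ℕ → Prop
  | .psl n, i => n < i + 2
  | .psu n, i => n < i + 2
  | .psp n, i => n < eta i + 1
  | .oodd n, i => n < eta i + 1
  | .oplus n, i => n < eta i + 2
  | .ominus n, i => n < eta i + 2
  | _, _ => False

/-- the adjacency facts for odd primes of regular classes (box P1) -/
structure AdjFacts (t : Fam) (p f : ℕ) (X : Type u) [Group X] : Prop where
  dvd : ∀ r : ℕ, r.Prime → r ≠ 2 → ¬ r ∣ p → 3 ≤ cls t (p ^ f) r → (r ∣ Nat.card X ↔ mem t (cls t (p ^ f) r))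
  adj : ∀ r s : ℕ, r.Prime → s.Prime → r ≠ 2 → s ≠ 2 → r ≠ s → ¬ r ∣ p → ¬ s ∣ p → 3 ≤ cls t (p ^ f) r →
    3 ≤ cls t (p ^ f) s → mem t (cls t (p ^ f) r) → mem t (cls t (p ^ f) s) →
    ((∃ x : X, orderOf x = r * s) ↔ ¬ na t (cls t (p ^ f) r) (cls t (p ^ f) s))
  adjp : ∀ r : ℕ, r.Prime → r ≠ 2 → ¬ r ∣ p → 3 ≤ cls t (p ^ f) r → mem t (cls t (p ^ f) r) →
    ((∃ x : X, orderOf x = r * p) ↔ ¬ nap t (cls t (p ^ f) r))

end Cfsg.Agent.R2.Spec
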